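import Groth.Agent.RelDiv.Sum
import Mathlib.AlgebraicGeometry.Limits

/-!
# Disjoint unions of finite locally free schemes
-/

set_option autoImplicit false

universe u

open CategoryTheory CategoryTheory.Limits AlgebraicGeometry TopologicalSpace

noncomputable section

namespace Groth.Agent.HilbStrat

variable {A B T P : Scheme.{u}}

theorem bijective_prod_app (W : (A ⨿ B).Opens) :
    Function.Bijective fun x => ((coprod.inl (C := Scheme) : A ⟶ A ⨿ B).app W x,
      (coprod.inr (C := Scheme) : B ⟶ A ⨿ B).app W x) := by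
  let e := Scheme.coprodPresheafObjIso W ≪≫
    (limit.isLimit _).conePointUniqueUpToIso (CommRingCat.prodFanIsLimit _ _)
  have h := ConcreteCategory.bijective_of_isIso e.hom
  refine (congrArg Function.Bijective (funext fun x => ?_)).mp h
  have h1 : e.hom ≫ CommRingCat.ofHom (RingHom.fst _ _) = (coprod.inl (C := Scheme) : A ⟶ A ⨿ B).app W := by
    have := (limit.isLimit _).conePointUniqueUpToIso_hom_comp (CommRingCat.prodFanIsLimit
      Γ(A, coprod.inl (C := Scheme) ⁻¹ᵁ W) Γ(B, coprod.inr (C := Scheme) ⁻¹ᵁ W)) ⟨WalkingPair.left⟩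
    rw [← Scheme.coprodPresheafObjIso_hom_fst, Iso.trans_hom, Category.assoc]
    exact congrArg _ this
  have h2 : e.hom ≫ CommRingCat.ofHom (RingHom.snd _ _) = (coprod.inr (C := Scheme) : B ⟶ A ⨿ B).app W := by
    have := (limit.isLimit _).conePointUniqueUpToIso_hom_comp (CommRingCat.prodFanIsLimit
      Γ(A, coprod.inl (C := Scheme) ⁻¹ᵁ W) Γ(B, coprod.inr (C := Scheme) ⁻¹ᵁ W)) ⟨WalkingPair.right⟩
    rw [← Scheme.coprodPresheafObjIso_hom_snd, Iso.trans_hom, Category.assoc]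
    exact congrArg _ this
  exact Prod.ext (ConcreteCategory.congr_hom h1 x) (ConcreteCategory.congr_hom h2 x)

/-- The rank of a disjoint union. -/
theorem finrank_coprod (q : A ⨿ B ⟶ T) [IsFinite q] [Flat q] [IsFinite (coprod.inl ≫ q)] [Flat (coprod.inl ≫ q)]
    [IsFinite (coprod.inr ≫ q)] [Flat (coprod.inr ≫ q)] (y : T) :
    q.finrank y = (coprod.inl ≫ q).finrank y + (coprod.inr ≫ q).finrank y := by
  obtain ⟨U, hU, hyU, -⟩ := exists_isAffineOpen_mem_and_subset (x := y) (U := ⊤) trivial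
  obtain ⟨p, rfl⟩ := (hU.fromSpec.mem_opensRange).1 (by rwa [hU.opensRange_fromSpec])
  rw [RelDiv.finrank_fromSpec_eq q hU p, RelDiv.finrank_fromSpec_eq (coprod.inl ≫ q) hU p,
    RelDiv.finrank_fromSpec_eq (coprod.inr ≫ q) hU p]
  letI := (q.app U).hom.toAlgebra
  letI := ((coprod.inl ≫ q).app U).hom.toAlgebra
  letI := ((coprod.inr ≫ q).app U).hom.toAlgebra
  haveI : Module.Finite Γ(T, U) Γ(A, (coprod.inl ≫ q) ⁻¹ᵁ U) := (coprod.inl ≫ q).finite_app U hU
  haveI : Module.Finite Γ(T, U) Γ(B, (coprod.inr ≫ q) ⁻¹ᵁ U) := (coprod.inr ≫ q).finite_app U hU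
  haveI : Module.Flat Γ(T, U) Γ(A, (coprod.inl ≫ q) ⁻¹ᵁ U) := by
    have := (coprod.inl ≫ q).flat_appLE hU (hU.preimage _) (e := le_rfl)
    rwa [← Scheme.Hom.app_eq_appLE] at this
  haveI : Module.Flat Γ(T, U) Γ(B, (coprod.inr ≫ q) ⁻¹ᵁ U) := by
    have := (coprod.inr ≫ q).flat_appLE hU (hU.preimage _) (e := le_rfl)
    rwa [← Scheme.Hom.app_eq_appLE] at this
  let L : Γ(A ⨿ B, q ⁻¹ᵁ U) →ₗ[Γ(T, U)] Γ(A, (coprod.inl ≫ q) ⁻¹ᵁ U) × Γ(B, (coprod.inr ≫ q) ⁻¹ᵁ U) :=
    { toFun := fun x => ((coprod.inl (C := Scheme) : A ⟶ A ⨿ B).app (q ⁻¹ᵁ U) x,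
        (coprod.inr (C := Scheme) : B ⟶ A ⨿ B).app (q ⁻¹ᵁ U) x)
      map_add' := fun x y => Prod.ext (map_add _ x y) (map_add _ x y)
      map_smul' := fun r x => Prod.ext (map_mul _ _ x) (map_mul _ _ x) }
  rw [Module.rankAtStalk_eq_of_equiv (LinearEquiv.ofBijective L (bijective_prod_app _)), Module.rankAtStalk_prod]
  rfl

theorem isFinLocFreeOfDeg_coprod_desc {q₁ : A ⟶ T} {q₂ : B ⟶ T} {a b : ℕ} (h₁ : Mor2.IsFinLocFreeOfDeg a q₁)
    (h₂ : Mor2.IsFinLocFreeOfDeg b q₂) : Mor2.IsFinLocFreeOfDeg (a + b) (coprod.desc q₁ q₂) := by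
  obtain ⟨⟨i1, i2, i3⟩, ha⟩ := h₁
  obtain ⟨⟨j1, j2, j3⟩, hb⟩ := h₂
  haveI hfl : Flat (coprod.desc q₁ q₂) :=
    IsZariskiLocalAtSource.of_openCover (coprodOpenCover.{u, 0} A B) (by
      rintro (x | x)
      · show _root_.AlgebraicGeometry.Flat (coprod.inl ≫ coprod.desc q₁ q₂)
        rw [coprod.inl_desc]; exact i2
      · show _root_.AlgebraicGeometry.Flat (coprod.inr ≫ coprod.desc q₁ q₂)
        rw [coprod.inr_desc]; exact j2)
  haveI hfp : LocallyOfFinitePresentation (coprod.desc q₁ q₂) :=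
    IsZariskiLocalAtSource.of_openCover (coprodOpenCover.{u, 0} A B) (by
      rintro (x | x)
      · show _root_.AlgebraicGeometry.LocallyOfFinitePresentation (coprod.inl ≫ coprod.desc q₁ q₂)
        rw [coprod.inl_desc]; exact i3
      · show _root_.AlgebraicGeometry.LocallyOfFinitePresentation (coprod.inr ≫ coprod.desc q₁ q₂)
        rw [coprod.inr_desc]; exact j3)
  haveI : IsFinite (coprod.desc q₁ q₂) := inferInstance
  refine ⟨⟨inferInstance, hfl, hfp⟩, fun y => ?_⟩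
  haveI : IsFinite (coprod.inl ≫ coprod.desc q₁ q₂) := by rw [coprod.inl_desc]; exact i1
  haveI : Flat (coprod.inl ≫ coprod.desc q₁ q₂) := by rw [coprod.inl_desc]; exact i2
  haveI : IsFinite (coprod.inr ≫ coprod.desc q₁ q₂) := by rw [coprod.inr_desc]; exact j1
  haveI : Flat (coprod.inr ≫ coprod.desc q₁ q₂) := by rw [coprod.inr_desc]; exact j2
  rw [finrank_coprod, coprod.inl_desc, coprod.inr_desc, ha, hb]

theorem range_coprod_desc (c₁ : A ⟶ P) (c₂ : B ⟶ P) :
    Set.range (coprod.desc c₁ c₂) = Set.range c₁ ∪ Set.range c₂ := by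
  ext z
  constructor
  · rintro ⟨w, rfl⟩
    obtain ⟨(x | x), rfl⟩ := (coprodMk A B).surjective w
    · exact Or.inl ⟨x, by rw [coprodMk_inl, ← Scheme.Hom.comp_apply, coprod.inl_desc]⟩
    · exact Or.inr ⟨x, by rw [coprodMk_inr, ← Scheme.Hom.comp_apply, coprod.inr_desc]⟩
  · rintro (⟨x, rfl⟩ | ⟨x, rfl⟩)
    · exact ⟨coprod.inl (C := Scheme) x, by rw [← Scheme.Hom.comp_apply, coprod.inl_desc]⟩
    · exact ⟨coprod.inr (C := Scheme) x, by rw [← Scheme.Hom.comp_apply, coprod.inr_desc]⟩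

theorem isClosedImmersion_coprod_desc (c₁ : A ⟶ P) (c₂ : B ⟶ P) [IsClosedImmersion c₁] [IsClosedImmersion c₂]
    (hd : Disjoint (Set.range c₁) (Set.range c₂)) : IsClosedImmersion (coprod.desc c₁ c₂) := by
  have hinj : Function.Injective (coprod.desc c₁ c₂) := by
    intro w w' h
    obtain ⟨(x | x), rfl⟩ := (coprodMk A B).surjective w <;> obtain ⟨(x' | x'), rfl⟩ := (coprodMk A B).surjective w' <;>
      simp only [coprodMk_inl, coprodMk_inr, ← Scheme.Hom.comp_apply, coprod.inl_desc, coprod.inr_desc] at h ⊢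
    · rw [c₁.isClosedEmbedding.injective h]
    · exact absurd ⟨x', h.symm⟩ (Set.disjoint_left.1 hd ⟨x, rfl⟩)
    · exact absurd ⟨x, h⟩ (Set.disjoint_left.1 hd ⟨x', rfl⟩)
    · rw [c₂.isClosedEmbedding.injective h]
  have hst : ∀ w, Function.Surjective ((coprod.desc c₁ c₂).stalkMap w) := by
    have key : ∀ {E : Scheme.{u}} (j : E ⟶ A ⨿ B) [IsOpenImmersion j] (c : E ⟶ P) [IsClosedImmersion c],
        j ≫ coprod.desc c₁ c₂ = c → ∀ x, Function.Surjective ((coprod.desc c₁ c₂).stalkMap (j x)) := by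
      intro E j _ c _ hc x
      subst hc
      have h1 := (j ≫ coprod.desc c₁ c₂).stalkMap_surjective x
      rw [Scheme.Hom.stalkMap_comp] at h1
      exact fun y => by
        obtain ⟨z, hz⟩ := h1 (j.stalkMap x y)
        exact ⟨z, (ConcreteCategory.bijective_of_isIso (j.stalkMap x)).injective hz⟩
    intro w
    obtain ⟨(x | x), rfl⟩ := (coprodMk A B).surjective w
    · rw [coprodMk_inl]; exact key _ c₁ (coprod.inl_desc _ _) x
    · rw [coprodMk_inr]; exact key _ c₂ (coprod.inr_desc _ _) x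
  haveI : IsFinite (coprod.desc c₁ c₂) := inferInstance
  haveI : IsPreimmersion (coprod.desc c₁ c₂) :=
    { isEmbedding := (Topology.IsClosedEmbedding.of_continuous_injective_isClosedMap
        (coprod.desc c₁ c₂).continuous hinj (coprod.desc c₁ c₂).isClosedMap).isEmbedding
      stalkMap_surjective := hst }
  exact .of_isPreimmersion _ (by rw [range_coprod_desc]; exact c₁.isClosedEmbedding.isClosed_range.union c₂.isClosedEmbedding.isClosed_range)

end Groth.Agent.HilbStrat
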