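import Groth.Agent.HilbStrat.Strata

/-!
# The product formula for stratified Hilbert schemes of points
-/

set_option autoImplicit false
set_option backward.isDefEq.respectTransparency.types false

universe u

open CategoryTheory CategoryTheory.Limits AlgebraicGeometry TopologicalSpace

noncomputable section

namespace Groth.Agent.HilbStrat

/-- A coproduct of monomorphisms with disjoint images is a monomorphism. -/
theorem mono_sigmaDesc {σ : Type u} {A : σ → Scheme.{u}} {B : Scheme.{u}} (φ : ∀ i, A i ⟶ B) [∀ i, Mono (φ i)]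
    (hd : ∀ i j x y, φ i x = φ j y → i = j) : Mono (Sigma.desc φ) := by
  refine ⟨fun {W} a b hab => ?_⟩
  let V : σ → W.Opens := fun i => a ⁻¹ᵁ (Sigma.ι A i).opensRange
  have hV : ⨆ i, V i = ⊤ := by
    rw [eq_top_iff]
    intro w _
    obtain ⟨⟨i, x⟩, hx⟩ := (sigmaMk A).surjective (a w)
    rw [sigmaMk_mk] at hx
    exact Opens.mem_iSup.2 ⟨i, ⟨x, hx⟩⟩
  refine (W.openCoverOfIsOpenCover V hV).hom_ext _ _ fun i => ?_
  show (V i).ι ≫ a = (V i).ι ≫ b
  have ha : Set.range ((V i).ι ≫ a) ⊆ Set.range (Sigma.ι A i) := by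
    rintro _ ⟨w, rfl⟩
    exact w.2
  have hb : Set.range ((V i).ι ≫ b) ⊆ Set.range (Sigma.ι A i) := by
    rintro _ ⟨w, rfl⟩
    obtain ⟨x, hx⟩ := (w.2 : a w.1 ∈ Set.range (Sigma.ι A i))
    obtain ⟨⟨j, y⟩, hy⟩ := (sigmaMk A).surjective (b w.1)
    rw [sigmaMk_mk] at hy
    have h : φ i x = φ j y := by
      rw [← Sigma.ι_desc φ i, ← Sigma.ι_desc φ j, Scheme.Hom.comp_apply, Scheme.Hom.comp_apply, hx, hy,
        ← Scheme.Hom.comp_apply, ← Scheme.Hom.comp_apply, hab]
    obtain rfl := hd i j x y h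
    exact ⟨y, hy⟩
  rw [← IsOpenImmersion.lift_fac (Sigma.ι A i) _ ha, ← IsOpenImmersion.lift_fac (Sigma.ι A i) _ hb]
  congr 1
  rw [← cancel_mono (φ i), ← Sigma.ι_desc φ i, IsOpenImmersion.lift_fac_assoc, IsOpenImmersion.lift_fac_assoc,
    Category.assoc, Category.assoc, hab]

variable {k : Type u} [Field k] {X : Scheme.{u}} {f : X ⟶ Spec (CommRingCat.of k)}
  {H : ℕ → Over (Spec (CommRingCat.of k))} {Z : ∀ d, _root_.HilbD.Obj f d (H d)}

/-- Pieces for disjoint supports combine, with multiplication of the series. -/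
theorem exists_combine (hZ : ∀ d, _root_.HilbD.IsUniversal f d (H d) (Z d)) {Y₁ Y₂ : Set X}
    (hY : Disjoint Y₁ Y₂) (P : Piece f H Z Y₁) (Q : Piece f H Z Y₂) :
    ∃ R : Piece f H Z (Y₁ ∪ Y₂), R.series = P.series * Q.series := by
  classical
  let α : ℕ → Type u := fun d => ULift.{u} {p : ℕ × ℕ // p ∈ Finset.HasAntidiagonal.antidiagonal d}
  have hα : ∀ d (p : α d), p.down.1.1 + p.down.1.2 = d := fun d p => Finset.HasAntidiagonal.mem_antidiagonal.1 p.down.2
  choose φ hφ using fun d (p : α d) => exists_prodMap hZ P Q p.down.1.1 p.down.1.2 hY (hα d p)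
  haveI : ∀ d (p : α d), Mono (φ d p).left := fun d p => mono_prodMap hZ P Q _ _ hY (hφ d p)
  let ι : ∀ d, (∐ fun p : α d => (prodT P Q p.down.1.1 p.down.1.2).left) ⟶ (H d).left :=
    fun d => Sigma.desc fun p => (φ d p).left
  have hι : ∀ d (p : α d), Sigma.ι (fun p : α d => (prodT P Q p.down.1.1 p.down.1.2).left) p ≫ ι d = (φ d p).left :=
    fun d p => Sigma.ι_desc _ p
  have hdisj : ∀ d (p q : α d) x y, (φ d p).left x = (φ d q).left y → p = q := by
    intro d p q x y hxy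
    obtain ⟨z, hz₁, hz₂⟩ := Scheme.Pullback.exists_preimage_pullback (f := (φ d p).left) (g := (φ d q).left) x y hxy
    let A : Scheme.{u} := pullback (φ d p).left (φ d q).left
    let T : Over (Spec (CommRingCat.of k)) :=
      Over.mk (pullback.fst (φ d p).left (φ d q).left ≫ (prodT P Q p.down.1.1 p.down.1.2).hom)
    haveI : Nonempty T.left := ⟨z⟩
    let u' : T ⟶ prodT P Q p.down.1.1 p.down.1.2 := Over.homMk (pullback.fst _ _) rfl
    let v' : T ⟶ prodT P Q q.down.1.1 q.down.1.2 := Over.homMk (pullback.snd _ _) (by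
      show pullback.snd (φ d p).left (φ d q).left ≫ _ = pullback.fst _ _ ≫ _
      rw [← Over.w (φ d p), ← Over.w (φ d q), pullback.condition_assoc])
    have h := point_unique hZ P Q _ _ hY (hφ d p) (hφ d q) u' v' (Over.OverMorphism.ext pullback.condition)
    exact ULift.ext _ _ (Subtype.ext (Prod.ext h (by have := hα d p; have := hα d q; omega)))
  haveI hmono : ∀ d, Mono (ι d) := fun d => mono_sigmaDesc _ (hdisj d)
  haveI hfp : ∀ d (p : α d), LocallyOfFiniteType (prodT P Q p.down.1.1 p.down.1.2).hom ∧ QuasiCompact (prodT P Q p.down.1.1 p.down.1.2).hom :=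
    fun d p => ⟨inferInstanceAs (LocallyOfFiniteType (pullback.fst _ _ ≫ _ ≫ _)),
      inferInstanceAs (QuasiCompact (pullback.fst _ _ ≫ _ ≫ _))⟩
  have hcomp : ∀ d (p : α d), Sigma.ι (fun p : α d => (prodT P Q p.down.1.1 p.down.1.2).left) p ≫ ι d ≫ (H d).hom =
      (prodT P Q p.down.1.1 p.down.1.2).hom := fun d p => by rw [reassoc_of% hι d p]; exact Over.w (φ d p)
  haveI hlft : ∀ d, LocallyOfFiniteType (ι d ≫ (H d).hom) := fun d =>
    IsZariskiLocalAtSource.of_openCover (sigmaOpenCover fun p : α d => (prodT P Q p.down.1.1 p.down.1.2).left) fun p => by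
      show LocallyOfFiniteType (Sigma.ι _ p ≫ _)
      exact (hcomp d p).symm ▸ (hfp d p).1
  haveI hqc : ∀ d, QuasiCompact (ι d ≫ (H d).hom) := fun d => by
    haveI : ∀ p : α d, CompactSpace (prodT P Q p.down.1.1 p.down.1.2).left := fun p => by
      haveI := (hfp d p).2
      exact QuasiCompact.compactSpace_of_compactSpace (prodT P Q p.down.1.1 p.down.1.2).hom
    haveI : CompactSpace ↥(∐ fun p : α d => (prodT P Q p.down.1.1 p.down.1.2).left) :=
      (sigmaMk fun p : α d => (prodT P Q p.down.1.1 p.down.1.2).left).compactSpace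
    exact HasAffineProperty.iff_of_isAffine.2 ‹_›
  have hrange : ∀ d, Set.range (ι d) = locus f H Z (Y₁ ∪ Y₂) d := fun d => by
    refine Set.Subset.antisymm ?_ fun h hh => ?_
    · rintro _ ⟨s, rfl⟩
      obtain ⟨⟨p, x⟩, rfl⟩ := (sigmaMk _).surjective s
      rw [sigmaMk_mk, ← Scheme.Hom.comp_apply, hι]
      exact range_prodMap hZ P Q _ _ hY (hφ d p) ⟨x, rfl⟩
    · obtain ⟨p, hp, x, hx⟩ := exists_point hZ P Q hY hh
        (fun p hp => φ d ⟨⟨p, Finset.HasAntidiagonal.mem_antidiagonal.2 hp⟩⟩)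
        (fun p hp => hφ d ⟨⟨p, Finset.HasAntidiagonal.mem_antidiagonal.2 hp⟩⟩)
      refine ⟨Sigma.ι (fun p : α d => (prodT P Q p.down.1.1 p.down.1.2).left) ⟨⟨p, Finset.HasAntidiagonal.mem_antidiagonal.2 hp⟩⟩ x, ?_⟩
      rw [← Scheme.Hom.comp_apply, hι]; exact hx
  refine ⟨⟨fun d => ∐ fun p : α d => (prodT P Q p.down.1.1 p.down.1.2).left, ι, hmono, hlft, hqc, hrange⟩, ?_⟩
  refine PowerSeries.ext fun d => ?_
  simp only [Piece.series, PowerSeries.coeff_mk, PowerSeries.coeff_mul]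
  let W : α d → (∐ fun p : α d => (prodT P Q p.down.1.1 p.down.1.2).left).Opens := fun p =>
    (Sigma.ι (fun p : α d => (prodT P Q p.down.1.1 p.down.1.2).left) p).opensRange
  have heq : ∀ p, (W p).ι ≫ ι d ≫ (H d).hom =
      (Scheme.Hom.isoOpensRange (Sigma.ι (fun p : α d => (prodT P Q p.down.1.1 p.down.1.2).left) p)).inv ≫
        (prodT P Q p.down.1.1 p.down.1.2).hom := fun p => by
    rw [← hcomp d p, Scheme.Hom.isoOpensRange_inv_comp_assoc]
  haveI : ∀ p, QuasiCompact ((W p).ι ≫ ι d ≫ (H d).hom) := fun p => by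
    haveI := (hfp d p).2
    rw [heq p]; infer_instance
  rw [SymCoprod.cl_disjoint_cover (ι d ≫ (H d).hom) W (fun p q hpq => by
      rw [Set.disjoint_left]
      rintro _ ⟨x, rfl⟩ ⟨y, hy⟩
      have h := congrArg (fun s => ι d s) hy
      simp only [← Scheme.Hom.comp_apply, hι] at h
      exact hpq (hdisj d p q x y h.symm))
    (fun s => by
      obtain ⟨⟨p, x⟩, rfl⟩ := (sigmaMk _).surjective s
      exact ⟨p, x, (sigmaMk_mk (fun p : α d => (prodT P Q p.down.1.1 p.down.1.2).left) p x).symm⟩),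
    ← Finset.sum_attach (Finset.HasAntidiagonal.antidiagonal d),
    ← Finset.univ_eq_attach]
  refine Fintype.sum_equiv Equiv.ulift _ _ fun p => ?_
  haveI := (hfp d p).1
  haveI := (hfp d p).2
  show _ = K0Var.cl (P.ι p.down.1.1 ≫ (H p.down.1.1).hom) * K0Var.cl (Q.ι p.down.1.2 ≫ (H p.down.1.2).hom)
  rw [← K0Var.cl_mul]
  exact K0Var.cl_congr _ _ (Scheme.Hom.isoOpensRange (Sigma.ι (fun p : α d => (prodT P Q p.down.1.1 p.down.1.2).left) p)).symm
    (by rw [Iso.symm_hom]; exact (heq p).symm)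

end Groth.Agent.HilbStrat
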