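import Groth.Prelude.Def_K0Var
import Groth.Agent.S0414
import Mathlib.AlgebraicGeometry.Morphisms.FlatMono
import Mathlib.AlgebraicGeometry.Noetherian
import Mathlib.AlgebraicGeometry.Morphisms.IsIso
import Groth.Agent.RedSub.Basic

/-!
# Surjective monomorphisms of finite type schemes give equal classes in the Grothendieck ring
-/

set_option autoImplicit false

universe u

open CategoryTheory CategoryTheory.Limits AlgebraicGeometry TopologicalSpace

noncomputable section

namespace Groth.Agent.HilbStrat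

/-- A surjective closed immersion does not change the class. -/
theorem cl_of_surjective_closed {S X Z : Scheme.{u}} (f : X ⟶ S) [LocallyOfFiniteType f] [QuasiCompact f]
    (i : Z ⟶ X) [IsClosedImmersion i] [Surjective i] : K0Var.cl f = K0Var.cl (i ≫ f) := by
  have h := K0Var.cl_scissor f i (Scheme.emptyTo X) (by
    rw [Set.range_eq_empty (Scheme.emptyTo X), Set.compl_empty]; exact i.surjective.range_eq)
  rw [h, show K0Var.cl (Scheme.emptyTo X ≫ f) = 0 from K0Var.Gen.cl_eq_zero_of_isEmpty _, add_zero]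

variable {k : Type u} [Field k]

/-- A surjective monomorphism between schemes of finite type over a field gives equal classes. -/
theorem cl_eq_of_mono_surjective {A B : Scheme.{u}} (a : A ⟶ Spec (CommRingCat.of k))
    (b : B ⟶ Spec (CommRingCat.of k)) [LocallyOfFiniteType a] [QuasiCompact a] [LocallyOfFiniteType b]
    [QuasiCompact b] (φ : A ⟶ B) [Mono φ] [Surjective φ] (hφ : φ ≫ b = a) : K0Var.cl a = K0Var.cl b := by
  subst hφ
  haveI : LocallyOfFiniteType φ := locallyOfFiniteType_of_comp φ b
  haveI : IsLocallyNoetherian B := LocallyOfFiniteType.isLocallyNoetherian b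
  haveI : CompactSpace B := QuasiCompact.compactSpace_of_compactSpace b
  haveI : IsNoetherian B := {}
  haveI : QuasiCompact φ := by
    haveI : IsLocallyNoetherian A := LocallyOfFiniteType.isLocallyNoetherian (φ ≫ b)
    haveI : CompactSpace A := QuasiCompact.compactSpace_of_compactSpace (φ ≫ b)
    haveI : IsNoetherian A := {}
    exact ⟨fun U _ _ => (TopologicalSpace.NoetherianSpace.isCompact _)⟩
  have key : ∀ (C : Closeds B) (Z : Scheme.{u}) (z : Z ⟶ B) [IsClosedImmersion z] [IsReduced Z],
      Set.range z = C → K0Var.cl (pullback.snd φ z ≫ z ≫ b) = K0Var.cl (z ≫ b) := by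
    intro C
    induction C using WellFoundedLT.induction with
    | _ C ih =>
    intro Z z _ _ hz
    haveI : IsLocallyNoetherian Z := LocallyOfFiniteType.isLocallyNoetherian (z ≫ b)
    rcases isEmpty_or_nonempty Z with hE | hne
    · haveI : IsEmpty ↥(pullback φ z) := Function.isEmpty (pullback.snd φ z).base
      rw [K0Var.cl_eq_gen_cl, K0Var.cl_eq_gen_cl (z ≫ b),
        @K0Var.Gen.cl_eq_zero_of_isEmpty _ _ ‹IsEmpty ↥(pullback φ z)›,
        @K0Var.Gen.cl_eq_zero_of_isEmpty _ _ ‹IsEmpty Z›]
    let ψ := pullback.snd φ z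
    obtain ⟨U, hU, hfl, hfp⟩ := Groth.Agent.S0414.result ψ
    haveI := hfl
    haveI := hfp
    haveI : Mono (ψ ∣_ U) :=
      MorphismProperty.of_isPullback (P := MorphismProperty.monomorphisms Scheme.{u})
        (isPullback_morphismRestrict ψ U).flip (inferInstanceAs (Mono ψ))
    haveI : Surjective (ψ ∣_ U) := MorphismProperty.of_isPullback (isPullback_morphismRestrict ψ U).flip
      (inferInstanceAs (Surjective ψ))
    haveI := IsOpenImmersion.of_flat_of_mono (ψ ∣_ U)
    haveI : IsIso (ψ ∣_ U) := (isIso_iff_isOpenImmersion_and_surjective _).2 ⟨inferInstance, inferInstance⟩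
    let Cc : Closeds Z := ⟨(U : Set Z)ᶜ, U.isOpen.isClosed_compl⟩
    let I := Scheme.IdealSheafData.vanishingIdeal Cc
    let i : I.subscheme ⟶ Z := I.subschemeι
    let j : (U : Scheme.{u}) ⟶ Z := U.ι
    have hi : Set.range i = (U : Set Z)ᶜ := by
      rw [Scheme.IdealSheafData.range_subschemeι, Scheme.IdealSheafData.coe_support_vanishingIdeal]
      rfl
    have hj : Set.range j = (U : Set Z) := Scheme.Opens.range_ι U
    have hZ : K0Var.cl (z ≫ b) = K0Var.cl (i ≫ z ≫ b) + K0Var.cl (j ≫ z ≫ b) :=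
      K0Var.cl_scissor (z ≫ b) i j (by rw [hi, hj])
    have hW : K0Var.cl (ψ ≫ z ≫ b) = K0Var.cl (pullback.fst ψ i ≫ ψ ≫ z ≫ b) +
        K0Var.cl ((ψ ⁻¹ᵁ U).ι ≫ ψ ≫ z ≫ b) :=
      K0Var.cl_scissor _ _ _ (by
        rw [Scheme.Pullback.range_fst, hi, Scheme.Opens.range_ι, Set.preimage_compl]; rfl)
    have hopen : K0Var.cl ((ψ ⁻¹ᵁ U).ι ≫ ψ ≫ z ≫ b) = K0Var.cl (j ≫ z ≫ b) :=
      K0Var.cl_congr _ _ (asIso (ψ ∣_ U)) (by rw [asIso_hom, morphismRestrict_ι_assoc])
    have hC : (⟨Set.range (i ≫ z), (i ≫ z).isClosedEmbedding.isClosed_range⟩ : Closeds B) < C := by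
      refine lt_of_le_of_ne (fun y hy => ?_) fun h => ?_
      · obtain ⟨w, rfl⟩ := hy
        show (i ≫ z) w ∈ (C : Set B)
        rw [← hz]
        exact ⟨i w, rfl⟩
      · obtain ⟨w, hw⟩ := hU.nonempty
        have h1 : z w ∈ (C : Set B) := hz ▸ ⟨w, rfl⟩
        rw [← h] at h1
        obtain ⟨v, hv⟩ := h1
        have h2 : i v = w := z.isClosedEmbedding.injective hv
        have h3 : w ∈ Set.range i := ⟨v, h2⟩
        rw [hi] at h3
        exact h3 hw
    haveI : IsReduced I.subscheme := RedSub.isReduced_vanishingIdeal _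
    have hclosed : K0Var.cl (pullback.fst ψ i ≫ ψ ≫ z ≫ b) = K0Var.cl (i ≫ z ≫ b) := by
      have h := ih _ hC I.subscheme (i ≫ z) rfl
      simp only [Category.assoc] at h
      rw [← h]
      refine K0Var.cl_congr _ _ (pullbackLeftPullbackSndIso φ z i) ?_
      rw [← Category.assoc (pullbackLeftPullbackSndIso φ z i).hom, pullbackLeftPullbackSndIso_hom_snd,
        ← pullback.condition_assoc]
    rw [hW, hZ, hclosed, hopen]
  let C₀ : Closeds B := ⊤
  let I := Scheme.IdealSheafData.vanishingIdeal C₀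
  have hr : Set.range I.subschemeι = (C₀ : Set B) := by
    rw [Scheme.IdealSheafData.range_subschemeι, Scheme.IdealSheafData.coe_support_vanishingIdeal]
  haveI : IsReduced I.subscheme := RedSub.isReduced_vanishingIdeal _
  haveI : Surjective I.subschemeι := ⟨fun y => by
    have : y ∈ Set.range I.subschemeι := hr ▸ Set.mem_univ y
    exact this⟩
  have h := key C₀ I.subscheme I.subschemeι hr
  rw [cl_of_surjective_closed (φ ≫ b) (pullback.fst φ I.subschemeι), cl_of_surjective_closed b I.subschemeι, ← h]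
  exact K0Var.cl_congr _ _ (Iso.refl _) (by rw [Iso.refl_hom, Category.id_comp, pullback.condition_assoc])

end Groth.Agent.HilbStrat
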