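import Groth.Agent.HilbD.Basic
import Groth.Agent.HilbStrat.Union

/-!
# Splitting finite locally free families of points
-/

set_option autoImplicit false
set_option backward.isDefEq.respectTransparency.types false

universe u

open CategoryTheory CategoryTheory.Limits AlgebraicGeometry TopologicalSpace

noncomputable section

namespace Groth.Agent.HilbStrat

variable {X S : Scheme.{u}} (f : X ⟶ S)

/-- All points of the family map into `Y`. -/
def Supp {T : Over S} {d : ℕ} (Z : _root_.HilbD.Obj f d T) (Y : Set X) : Prop :=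
  ∀ z : Z.1.subscheme, (Z.1.subschemeι ≫ pullback.fst f T.hom) z ∈ Y

/-- `W` is the disjoint union of `Z₁` and `Z₂`. -/
def IsSplit {T : Over S} {a b d : ℕ} (W : _root_.HilbD.Obj f d T) (Z₁ : _root_.HilbD.Obj f a T)
    (Z₂ : _root_.HilbD.Obj f b T) : Prop :=
  ∃ (j₁ : Z₁.1.subscheme ⟶ W.1.subscheme) (j₂ : Z₂.1.subscheme ⟶ W.1.subscheme),
    IsOpenImmersion j₁ ∧ IsOpenImmersion j₂ ∧ j₁ ≫ W.1.subschemeι = Z₁.1.subschemeι ∧
      j₂ ≫ W.1.subschemeι = Z₂.1.subschemeι ∧ Disjoint (Set.range j₁) (Set.range j₂) ∧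
      Set.range j₁ ∪ Set.range j₂ = Set.univ

variable {f}

theorem disjoint_range {T : Over S} {a b : ℕ} {Z₁ : _root_.HilbD.Obj f a T} {Z₂ : _root_.HilbD.Obj f b T}
    {Y₁ Y₂ : Set X} (hY : Disjoint Y₁ Y₂) (h₁ : Supp f Z₁ Y₁) (h₂ : Supp f Z₂ Y₂) :
    Disjoint (Set.range Z₁.1.subschemeι) (Set.range Z₂.1.subschemeι) := by
  rw [Set.disjoint_left]
  rintro _ ⟨z, rfl⟩ ⟨z', hz'⟩
  have h := h₂ z'
  rw [Scheme.Hom.comp_apply, hz', ← Scheme.Hom.comp_apply] at h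
  exact Set.disjoint_left.1 hY (h₁ z) h

/-- The union of two disjoint families. -/
theorem exists_union {T : Over S} {a b : ℕ} (Z₁ : _root_.HilbD.Obj f a T) (Z₂ : _root_.HilbD.Obj f b T)
    {Y₁ Y₂ : Set X} (hY : Disjoint Y₁ Y₂) (h₁ : Supp f Z₁ Y₁) (h₂ : Supp f Z₂ Y₂) :
    ∃ W : _root_.HilbD.Obj f (a + b) T, IsSplit f W Z₁ Z₂ := by
  let c := coprod.desc Z₁.1.subschemeι Z₂.1.subschemeι
  haveI : IsClosedImmersion c := isClosedImmersion_coprod_desc _ _ (disjoint_range hY h₁ h₂)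
  let e : Z₁.1.subscheme ⨿ Z₂.1.subscheme ⟶ c.ker.subscheme := c.toImage
  have he : e ≫ c.ker.subschemeι = c := c.toImage_imageι
  haveI : IsIso e := inferInstance
  have hdeg : Mor2.IsFinLocFreeOfDeg (a + b) (c.ker.subschemeι ≫ PicF.XTproj f T) := by
    have h := isFinLocFreeOfDeg_coprod_desc Z₁.2 Z₂.2
    have hc : coprod.desc (Z₁.1.subschemeι ≫ PicF.XTproj f T) (Z₂.1.subschemeι ≫ PicF.XTproj f T) =
        e ≫ c.ker.subschemeι ≫ PicF.XTproj f T := by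
      rw [reassoc_of% he]; ext <;> simp [c]
    rw [hc] at h
    obtain ⟨⟨i1, i2, i3⟩, i4⟩ := h
    have g1 : IsFinite (c.ker.subschemeι ≫ PicF.XTproj f T) :=
      (MorphismProperty.cancel_left_of_respectsIso @IsFinite e _).1 i1
    have g2 : Flat (c.ker.subschemeι ≫ PicF.XTproj f T) :=
      (MorphismProperty.cancel_left_of_respectsIso @Flat e _).1 i2
    have g3 : LocallyOfFinitePresentation (c.ker.subschemeι ≫ PicF.XTproj f T) :=
      (MorphismProperty.cancel_left_of_respectsIso @LocallyOfFinitePresentation e _).1 i3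
    refine ⟨⟨g1, g2, g3⟩, fun y => ?_⟩
    haveI := g1; haveI := g2
    exact (congrFun (@Scheme.Hom.finrank_comp_left_of_isIso _ _ _ e (c.ker.subschemeι ≫ PicF.XTproj f T) _ g2 g1) y).symm.trans (i4 y)
  refine ⟨⟨c.ker, hdeg⟩, coprod.inl ≫ e, coprod.inr ≫ e, inferInstance, inferInstance, ?_, ?_, ?_, ?_⟩
  · rw [Category.assoc]
    show coprod.inl ≫ e ≫ c.ker.subschemeι = _
    rw [he, coprod.inl_desc]
  · rw [Category.assoc]
    show coprod.inr ≫ e ≫ c.ker.subschemeι = _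
    rw [he, coprod.inr_desc]
  · rw [Set.disjoint_left]
    rintro _ ⟨x, rfl⟩ ⟨y, hy⟩
    simp only [Scheme.Hom.comp_apply] at hy
    exact inr_ne_inl _ _ x y (e.isOpenEmbedding.injective hy)
  · rw [Set.eq_univ_iff_forall]
    intro w
    obtain ⟨v, rfl⟩ := e.surjective w
    obtain ⟨(x | x), rfl⟩ := (coprodMk _ _).surjective v
    · exact Or.inl ⟨x, by rw [Scheme.Hom.comp_apply, coprodMk_inl]⟩
    · exact Or.inr ⟨x, by rw [Scheme.Hom.comp_apply, coprodMk_inr]⟩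

/-- The total of a splitting is determined by its parts. -/
theorem IsSplit.eq_ker {T : Over S} {a b d : ℕ} {W : _root_.HilbD.Obj f d T} {Z₁ : _root_.HilbD.Obj f a T}
    {Z₂ : _root_.HilbD.Obj f b T} (h : IsSplit f W Z₁ Z₂) :
    W.1 = (coprod.desc Z₁.1.subschemeι Z₂.1.subschemeι).ker := by
  obtain ⟨j₁, j₂, hj₁, hj₂, h1, h2, hd, hc⟩ := h
  let e := coprod.desc j₁ j₂
  haveI : IsOpenImmersion e := by
    have hinj : Function.Injective e := by
      intro w w' h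
      obtain ⟨(x | x), rfl⟩ := (coprodMk _ _).surjective w <;> obtain ⟨(x' | x'), rfl⟩ := (coprodMk _ _).surjective w' <;>
        simp only [e, coprodMk_inl, coprodMk_inr, ← Scheme.Hom.comp_apply, coprod.inl_desc, coprod.inr_desc] at h ⊢
      · rw [j₁.isOpenEmbedding.injective h]
      · exact absurd ⟨x', h.symm⟩ (Set.disjoint_left.1 hd ⟨x, rfl⟩)
      · exact absurd ⟨x, h⟩ (Set.disjoint_left.1 hd ⟨x', rfl⟩)
      · rw [j₂.isOpenEmbedding.injective h]
    exact IsOpenImmersion.of_openCover_source e (coprodOpenCover.{u, 0} _ _) hinj (by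
      rintro (x | x)
      · show IsOpenImmersion (coprod.inl ≫ coprod.desc j₁ j₂)
        rw [coprod.inl_desc]; exact hj₁
      · show IsOpenImmersion (coprod.inr ≫ coprod.desc j₁ j₂)
        rw [coprod.inr_desc]; exact hj₂)
  haveI : Surjective e := ⟨fun w => by
    have hw : w ∈ Set.range e := by rw [range_coprod_desc, hc]; trivial
    exact hw⟩
  haveI : IsIso e := (isIso_iff_isOpenImmersion_and_surjective _).2 ⟨inferInstance, inferInstance⟩
  have he : e ≫ W.1.subschemeι = coprod.desc Z₁.1.subschemeι Z₂.1.subschemeι := by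
    ext <;> simp [e, h1, h2]
  rw [← he, Scheme.Hom.ker_comp_of_isIso, Scheme.IdealSheafData.ker_subschemeι]

theorem IsSplit.eq_total {T : Over S} {a b d : ℕ} {W W' : _root_.HilbD.Obj f d T} {Z₁ : _root_.HilbD.Obj f a T}
    {Z₂ : _root_.HilbD.Obj f b T} (h : IsSplit f W Z₁ Z₂) (h' : IsSplit f W' Z₁ Z₂) : W = W' :=
  Subtype.ext (h.eq_ker.trans h'.eq_ker.symm)

/-- The total is supported in the union. -/
theorem IsSplit.supp {T : Over S} {a b d : ℕ} {W : _root_.HilbD.Obj f d T} {Z₁ : _root_.HilbD.Obj f a T}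
    {Z₂ : _root_.HilbD.Obj f b T} (h : IsSplit f W Z₁ Z₂) {Y₁ Y₂ : Set X} (h₁ : Supp f Z₁ Y₁) (h₂ : Supp f Z₂ Y₂) :
    Supp f W (Y₁ ∪ Y₂) := by
  obtain ⟨j₁, j₂, -, -, h1, h2, -, hc⟩ := h
  intro w
  rcases (hc ▸ Set.mem_univ w : w ∈ Set.range j₁ ∪ Set.range j₂) with ⟨z, rfl⟩ | ⟨z, rfl⟩
  · left
    rw [← Scheme.Hom.comp_apply, reassoc_of% h1]
    exact h₁ z
  · right
    rw [← Scheme.Hom.comp_apply, reassoc_of% h2]
    exact h₂ z

/-- Closed subschemes over the same points of a splitting contain one another. -/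
theorem ker_le_of_range {P A B W : Scheme.{u}} (ι : W ⟶ P) (jA : A ⟶ W) (jB : B ⟶ W) [IsOpenImmersion jB]
    (h : Set.range jA ⊆ Set.range jB) : (jB ≫ ι).ker ≤ (jA ≫ ι).ker := by
  rw [← IsOpenImmersion.lift_fac jB jA h, Category.assoc]
  exact Scheme.Hom.le_ker_comp _ _

/-- The parts of a splitting are determined by the total. -/
theorem IsSplit.unique {T : Over S} {a a' b b' d : ℕ} {W : _root_.HilbD.Obj f d T}
    {Z₁ : _root_.HilbD.Obj f a T} {Z₂ : _root_.HilbD.Obj f b T}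
    {Z₁' : _root_.HilbD.Obj f a' T} {Z₂' : _root_.HilbD.Obj f b' T}
    (h : IsSplit f W Z₁ Z₂) (h' : IsSplit f W Z₁' Z₂') {Y₁ Y₂ : Set X} (hY : Disjoint Y₁ Y₂)
    (h₁ : Supp f Z₁ Y₁) (h₂ : Supp f Z₂ Y₂) (h₁' : Supp f Z₁' Y₁) (h₂' : Supp f Z₂' Y₂) :
    Z₁.1 = Z₁'.1 ∧ Z₂.1 = Z₂'.1 := by
  obtain ⟨j₁, j₂, hj₁, hj₂, h1, h2, -, hc⟩ := h
  obtain ⟨j₁', j₂', hj₁', hj₂', h1', h2', -, hc'⟩ := h'
  let pr : W.1.subscheme → X := fun w => (W.1.subschemeι ≫ pullback.fst f T.hom) w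
  have sub : ∀ {E F G : Scheme.{u}} (a : E ⟶ W.1.subscheme) (b : F ⟶ W.1.subscheme) (c : G ⟶ W.1.subscheme)
      (A B : Set X), Disjoint A B → Set.range b ∪ Set.range c = Set.univ → (∀ z, pr (a z) ∈ A) →
      (∀ z, pr (c z) ∈ B) → Set.range a ⊆ Set.range b := by
    intro E F G a b c A B hAB hu ha hb
    rintro _ ⟨z, rfl⟩
    rcases (hu ▸ Set.mem_univ (a z) : a z ∈ Set.range b ∪ Set.range c) with h | ⟨y, hy⟩
    · exact h
    · exact absurd (hy ▸ hb y) (Set.disjoint_left.1 hAB (ha z))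
  have m₁ : ∀ z, pr (j₁ z) ∈ Y₁ := fun z => by
    simp only [pr]; rw [← Scheme.Hom.comp_apply, reassoc_of% h1]; exact h₁ z
  have m₂ : ∀ z, pr (j₂ z) ∈ Y₂ := fun z => by
    simp only [pr]; rw [← Scheme.Hom.comp_apply, reassoc_of% h2]; exact h₂ z
  have m₁' : ∀ z, pr (j₁' z) ∈ Y₁ := fun z => by
    simp only [pr]; rw [← Scheme.Hom.comp_apply, reassoc_of% h1']; exact h₁' z
  have m₂' : ∀ z, pr (j₂' z) ∈ Y₂ := fun z => by
    simp only [pr]; rw [← Scheme.Hom.comp_apply, reassoc_of% h2']; exact h₂' z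
  constructor
  · rw [← Scheme.IdealSheafData.ker_subschemeι Z₁.1, ← Scheme.IdealSheafData.ker_subschemeι Z₁'.1, ← h1, ← h1']
    exact le_antisymm (ker_le_of_range _ _ _ (sub j₁' j₁ j₂ _ _ hY hc m₁' m₂))
      (ker_le_of_range _ _ _ (sub j₁ j₁' j₂' _ _ hY hc' m₁ m₂'))
  · rw [← Scheme.IdealSheafData.ker_subschemeι Z₂.1, ← Scheme.IdealSheafData.ker_subschemeι Z₂'.1, ← h2, ← h2']
    exact le_antisymm (ker_le_of_range _ _ _ (sub j₂' j₂ j₁ _ _ hY.symm ((Set.union_comm _ _).trans hc) m₂' m₁))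
      (ker_le_of_range _ _ _ (sub j₂ j₂' j₁' _ _ hY.symm ((Set.union_comm _ _).trans hc') m₂ m₁'))

/-- Support is stable under base change. -/
theorem supp_pull {T T' : Over S} (g : T' ⟶ T) {d : ℕ} {Z : _root_.HilbD.Obj f d T} {Y : Set X}
    (h : ∀ z : Z.1.subscheme, (Z.1.subschemeι ≫ PicF.XTproj f T) z ∈ Set.range g.left →
      (Z.1.subschemeι ≫ pullback.fst f T.hom) z ∈ Y) :
    Supp f (HilbD.pullObj f d g Z) Y := by
  intro z
  obtain ⟨ψ, hψ, hsq⟩ := HilbD.exists_isPullback_pull f g Z.1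
  have h1 : (ψ ≫ Z.1.subschemeι) ≫ pullback.fst f T.hom =
      (_root_.HilbD.pull f g Z.1).subschemeι ≫ pullback.fst f T'.hom := by
    rw [hψ, Category.assoc, HilbD.XTmap_fst]
  have h2 := h (ψ z) ⟨((_root_.HilbD.pull f g Z.1).subschemeι ≫ PicF.XTproj f T') z, by
    rw [← Scheme.Hom.comp_apply, ← Scheme.Hom.comp_apply, hsq.w]⟩
  rw [← Scheme.Hom.comp_apply, ← Category.assoc, h1] at h2
  exact h2

/-- Splittings are stable under base change. -/
theorem IsSplit.pull {T T' : Over S} (g : T' ⟶ T) {a b d : ℕ} {W : _root_.HilbD.Obj f d T}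
    {Z₁ : _root_.HilbD.Obj f a T} {Z₂ : _root_.HilbD.Obj f b T} (h : IsSplit f W Z₁ Z₂) :
    IsSplit f (HilbD.pullObj f d g W) (HilbD.pullObj f a g Z₁) (HilbD.pullObj f b g Z₂) := by
  obtain ⟨j₁, j₂, hj₁, hj₂, h1, h2, hd, hc⟩ := h
  obtain ⟨ψ, hψ, hsq⟩ := HilbD.exists_isPullback_pull f g W.1
  have part : ∀ {e : ℕ} (Z : _root_.HilbD.Obj f e T) (j : Z.1.subscheme ⟶ W.1.subscheme) [IsOpenImmersion j],
      j ≫ W.1.subschemeι = Z.1.subschemeι → ∃ l : (_root_.HilbD.pull f g Z.1).subscheme ⟶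
        (_root_.HilbD.pull f g W.1).subscheme, IsOpenImmersion l ∧
        l ≫ (_root_.HilbD.pull f g W.1).subschemeι = (_root_.HilbD.pull f g Z.1).subschemeι ∧
        Set.range l = ψ ⁻¹' Set.range j := by
    intro e Z j _ hj
    obtain ⟨ψ', hψ', hsq'⟩ := HilbD.exists_isPullback_pull f g Z.1
    let l := hsq.lift (ψ' ≫ j) ((_root_.HilbD.pull f g Z.1).subschemeι ≫ PicF.XTproj f T')
      (by rw [Category.assoc, reassoc_of% hj, hsq'.w])
    have hl1 : l ≫ ψ = ψ' ≫ j := hsq.lift_fst _ _ _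
    have hl2 : l ≫ ((_root_.HilbD.pull f g W.1).subschemeι ≫ PicF.XTproj f T') =
        (_root_.HilbD.pull f g Z.1).subschemeι ≫ PicF.XTproj f T' := hsq.lift_snd _ _ _
    have hP : IsPullback ψ' l j ψ := by
      refine IsPullback.of_bot ?_ hl1.symm hsq
      rw [hl2, reassoc_of% hj]
      exact hsq'
    refine ⟨l, MorphismProperty.of_isPullback hP ‹IsOpenImmersion j›, ?_, ?_⟩
    · apply (HilbD.isPullback_XTmap f g).hom_ext
      · rw [Category.assoc, ← hψ, ← Category.assoc, hl1, Category.assoc, hj, hψ']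
      · rw [Category.assoc]; exact hl2
    · ext w
      constructor
      · rintro ⟨z, rfl⟩
        exact ⟨ψ' z, by rw [← Scheme.Hom.comp_apply, ← hl1, Scheme.Hom.comp_apply]⟩
      · rintro ⟨y, hy⟩
        obtain ⟨o, -, ho⟩ := Scheme.exists_preimage_of_isPullback hP y w hy
        exact ⟨o, ho⟩
  obtain ⟨l₁, hl₁, e₁, r₁⟩ := part Z₁ j₁ h1
  obtain ⟨l₂, hl₂, e₂, r₂⟩ := part Z₂ j₂ h2
  refine ⟨l₁, l₂, hl₁, hl₂, e₁, e₂, ?_, ?_⟩
  · exact r₁.symm ▸ r₂.symm ▸ hd.preimage ψ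
  · exact (congrArg₂ _ r₁ r₂).trans ((Set.preimage_union (f := (ψ : _ → _))).symm.trans ((congrArg _ hc).trans Set.preimage_univ))

/-- Over a base with discrete family a clopen decomposition gives a splitting. -/
theorem exists_split {T : Over S} [Subsingleton T.left] [Nonempty T.left] {d : ℕ} (W : _root_.HilbD.Obj f d T)
    [DiscreteTopology W.1.subscheme] {Y₁ Y₂ : Set X} (hY : Disjoint Y₁ Y₂) (hW : Supp f W (Y₁ ∪ Y₂)) :
    ∃ (a b : ℕ) (Z₁ : _root_.HilbD.Obj f a T) (Z₂ : _root_.HilbD.Obj f b T),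
      a + b = d ∧ Supp f Z₁ Y₁ ∧ Supp f Z₂ Y₂ ∧ IsSplit f W Z₁ Z₂ := by
  obtain ⟨⟨i1, i2, i3⟩, hdeg⟩ := W.2
  let t₀ : T.left := Classical.arbitrary _
  have part : ∀ Y : Set X, ∃ (e : ℕ) (Z : _root_.HilbD.Obj f e T) (j : Z.1.subscheme ⟶ W.1.subscheme),
      IsOpenImmersion j ∧ j ≫ W.1.subschemeι = Z.1.subschemeι ∧
      Set.range j = {w | (W.1.subschemeι ≫ pullback.fst f T.hom) w ∈ Y} := by
    intro Y
    let O : W.1.subscheme.Opens := ⟨{w | (W.1.subschemeι ≫ pullback.fst f T.hom) w ∈ Y}, isOpen_discrete _⟩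
    haveI : IsClosedImmersion O.ι := IsClosedImmersion.of_isPreimmersion _ (isClosed_discrete _)
    let c := O.ι ≫ W.1.subschemeι
    let e : (O : Scheme.{u}) ⟶ c.ker.subscheme := c.toImage
    have he : e ≫ c.ker.subschemeι = c := c.toImage_imageι
    haveI : IsIso e := inferInstance
    haveI := i1; haveI := i2; haveI := i3
    haveI g0 : IsFinite (c ≫ PicF.XTproj f T) := by simp only [c, Category.assoc]; infer_instance
    haveI g1' : Flat (c ≫ PicF.XTproj f T) := by simp only [c, Category.assoc]; infer_instance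
    haveI g2' : LocallyOfFinitePresentation (c ≫ PicF.XTproj f T) := by
      simp only [c, Category.assoc]; infer_instance
    have hq : c.ker.subschemeι ≫ PicF.XTproj f T = inv e ≫ c ≫ PicF.XTproj f T := by
      rw [IsIso.eq_inv_comp, reassoc_of% he]
    haveI g1 : IsFinite (c.ker.subschemeι ≫ PicF.XTproj f T) := by rw [hq]; infer_instance
    haveI g2 : Flat (c.ker.subschemeι ≫ PicF.XTproj f T) := by rw [hq]; infer_instance
    haveI g3 : LocallyOfFinitePresentation (c.ker.subschemeι ≫ PicF.XTproj f T) := by rw [hq]; infer_instance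
    refine ⟨(c.ker.subschemeι ≫ PicF.XTproj f T).finrank t₀, ⟨c.ker, ⟨⟨g1, g2, g3⟩, fun y => by
      rw [Subsingleton.elim y t₀]⟩⟩, inv e ≫ O.ι, inferInstance, ?_, ?_⟩
    · rw [Category.assoc, IsIso.inv_comp_eq]; exact he.symm
    · ext w
      constructor
      · rintro ⟨z, rfl⟩
        exact (inv e z).2
      · intro hw
        refine ⟨e ⟨w, hw⟩, ?_⟩
        rw [← Scheme.Hom.comp_apply, IsIso.hom_inv_id_assoc]
        rfl
  obtain ⟨a, Z₁, j₁, hj₁, e₁, r₁⟩ := part Y₁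
  obtain ⟨b, Z₂, j₂, hj₂, e₂, r₂⟩ := part Y₂
  have hs : IsSplit f W Z₁ Z₂ := by
    refine ⟨j₁, j₂, hj₁, hj₂, e₁, e₂, ?_, ?_⟩
    · rw [r₁, r₂, Set.disjoint_left]
      exact fun w h h' => Set.disjoint_left.1 hY h h'
    · rw [r₁, r₂, Set.eq_univ_iff_forall]
      exact fun w => hW w
  have s₁ : Supp f Z₁ Y₁ := fun z => by
    rw [← e₁, Category.assoc, Scheme.Hom.comp_apply]
    exact (r₁ ▸ ⟨z, rfl⟩ : j₁ z ∈ {w | (W.1.subschemeι ≫ pullback.fst f T.hom) w ∈ Y₁})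
  have s₂ : Supp f Z₂ Y₂ := fun z => by
    rw [← e₂, Category.assoc, Scheme.Hom.comp_apply]
    exact (r₂ ▸ ⟨z, rfl⟩ : j₂ z ∈ {w | (W.1.subschemeι ≫ pullback.fst f T.hom) w ∈ Y₂})
  refine ⟨a, b, Z₁, Z₂, ?_, s₁, s₂, hs⟩
  obtain ⟨U, hU⟩ := exists_union Z₁ Z₂ hY s₁ s₂
  rw [← hdeg t₀, hs.eq_ker, ← hU.eq_ker]
  exact (U.2.2 t₀).symm

end Groth.Agent.HilbStrat
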