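import Groth.Agent.HilbStrat.K0
import Groth.Agent.HilbStrat.Split
import Groth.Agent.SymCoprod.Split
import Mathlib.RingTheory.PowerSeries.Basic

/-!
# Stratification of Hilbert schemes of points by support
-/

set_option autoImplicit false
set_option backward.isDefEq.respectTransparency.types false

universe u

open CategoryTheory CategoryTheory.Limits AlgebraicGeometry TopologicalSpace

noncomputable section

namespace Groth.Agent.HilbStrat

variable {k : Type u} [Field k] {X : Scheme.{u}} (f : X ⟶ Spec (CommRingCat.of k))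
  (H : ℕ → Over (Spec (CommRingCat.of k))) (Z : ∀ d, _root_.HilbD.Obj f d (H d))

/-- The points of `H d` whose family is supported in `Y`. -/
def locus (Y : Set X) (d : ℕ) : Set (H d).left :=
  {h | ∀ z : (Z d).1.subscheme, ((Z d).1.subschemeι ≫ pullback.snd f (H d).hom) z = h →
    ((Z d).1.subschemeι ≫ pullback.fst f (H d).hom) z ∈ Y}

/-- A family of finite type monomorphisms onto the loci of families supported in `Y`. -/
structure Piece (Y : Set X) where
  J : ℕ → Scheme.{u}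
  ι : ∀ d, J d ⟶ (H d).left
  mono : ∀ d, Mono (ι d)
  lft : ∀ d, LocallyOfFiniteType (ι d ≫ (H d).hom)
  qc : ∀ d, QuasiCompact (ι d ≫ (H d).hom)
  range_eq : ∀ d, Set.range (ι d) = locus f H Z Y d

variable {f H Z}

instance {Y : Set X} (P : Piece f H Z Y) (d : ℕ) : Mono (P.ι d) := P.mono d
instance {Y : Set X} (P : Piece f H Z Y) (d : ℕ) : LocallyOfFiniteType (P.ι d ≫ (H d).hom) := P.lft d
instance {Y : Set X} (P : Piece f H Z Y) (d : ℕ) : QuasiCompact (P.ι d ≫ (H d).hom) := P.qc d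

theorem Piece.quasiCompact {Y : Set X} (P : Piece f H Z Y) (d : ℕ) : QuasiCompact (P.ι d) := by
  haveI : IsLocallyNoetherian (P.J d) := LocallyOfFiniteType.isLocallyNoetherian (P.ι d ≫ (H d).hom)
  haveI : CompactSpace (P.J d) := QuasiCompact.compactSpace_of_compactSpace (P.ι d ≫ (H d).hom)
  haveI : IsNoetherian (P.J d) := {}
  exact ⟨fun U _ _ => (TopologicalSpace.NoetherianSpace.isCompact _)⟩

/-- The generating series. -/
def Piece.series {Y : Set X} (P : Piece f H Z Y) : PowerSeries (K0Var.K (Spec (CommRingCat.of k))) :=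
  PowerSeries.mk fun d => K0Var.cl (P.ι d ≫ (H d).hom)

/-- Two pieces for the same support have the same series. -/
theorem Piece.series_eq {Y : Set X} (P Q : Piece f H Z Y) : P.series = Q.series := by
  refine PowerSeries.ext fun d => ?_
  simp only [Piece.series, PowerSeries.coeff_mk]
  haveI : Surjective (pullback.fst (P.ι d) (Q.ι d)) := ⟨fun x => by
    obtain ⟨y, hy⟩ : P.ι d x ∈ Set.range (Q.ι d) := by rw [Q.range_eq, ← P.range_eq]; exact ⟨x, rfl⟩
    obtain ⟨o, ho, -⟩ := Scheme.exists_preimage_of_isPullback (IsPullback.of_hasPullback (P.ι d) (Q.ι d)) x y hy.symm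
    exact ⟨o, ho⟩⟩
  haveI : Surjective (pullback.snd (P.ι d) (Q.ι d)) := ⟨fun y => by
    obtain ⟨x, hx⟩ : Q.ι d y ∈ Set.range (P.ι d) := by rw [P.range_eq, ← Q.range_eq]; exact ⟨y, rfl⟩
    obtain ⟨o, -, ho⟩ := Scheme.exists_preimage_of_isPullback (IsPullback.of_hasPullback (P.ι d) (Q.ι d)) x y hx
    exact ⟨o, ho⟩⟩
  haveI : LocallyOfFiniteType (Q.ι d) := locallyOfFiniteType_of_comp _ (H d).hom
  haveI : QuasiCompact (Q.ι d) := Q.quasiCompact d
  rw [← cl_eq_of_mono_surjective (pullback.fst (P.ι d) (Q.ι d) ≫ P.ι d ≫ (H d).hom) (P.ι d ≫ (H d).hom)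
      (pullback.fst _ _) rfl,
    cl_eq_of_mono_surjective (pullback.fst (P.ι d) (Q.ι d) ≫ P.ι d ≫ (H d).hom) (Q.ι d ≫ (H d).hom)
      (pullback.snd _ _) (by rw [pullback.condition_assoc])]


theorem isIso_of_mono_to_field {K : Type u} [Field K] {P : Scheme.{u}} (m : P ⟶ Spec (CommRingCat.of K)) [Mono m]
    [Surjective m] [QuasiCompact m] : IsIso m := by
  haveI : Flat m := inferInstance
  exact Flat.isIso_of_surjective_of_mono m

/-- Field-valued points lift along a piece. -/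
theorem Piece.exists_lift {Y : Set X} (P : Piece f H Z Y) (d : ℕ) {K : Type u} [Field K]
    (x : Spec (CommRingCat.of K) ⟶ (H d).left) (hx : ∀ p, x p ∈ locus f H Z Y d) :
    ∃ y : Spec (CommRingCat.of K) ⟶ P.J d, y ≫ P.ι d = x := by
  haveI := P.quasiCompact d
  haveI : Surjective (pullback.snd (P.ι d) x) := ⟨fun p => by
    obtain ⟨y, hy⟩ : x p ∈ Set.range (P.ι d) := by rw [P.range_eq]; exact hx p
    obtain ⟨o, -, ho⟩ := Scheme.exists_preimage_of_isPullback (IsPullback.of_hasPullback (P.ι d) x) y p hy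
    exact ⟨o, ho⟩⟩
  haveI := isIso_of_mono_to_field (pullback.snd (P.ι d) x)
  exact ⟨inv (pullback.snd (P.ι d) x) ≫ pullback.fst (P.ι d) x, by
    rw [Category.assoc, pullback.condition, IsIso.inv_hom_id_assoc]⟩

/-- A morphism landing in a locus pulls the family back to a supported one. -/
theorem Piece.supp_pullObj {Y : Set X} (P : Piece f H Z Y) {d : ℕ} {T : Over (Spec (CommRingCat.of k))}
    (g : T ⟶ H d) (m : T.left ⟶ P.J d) (hm : m ≫ P.ι d = g.left) :
    Supp f (HilbD.pullObj f d g (Z d)) Y := by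
  refine supp_pull g ?_
  rintro z ⟨t, ht⟩
  have h : g.left t ∈ locus f H Z Y d := by
    rw [← P.range_eq, ← hm]; exact ⟨m t, (Scheme.Hom.comp_apply _ _ _).symm⟩
  exact h z ht.symm

variable (hZ : ∀ d, _root_.HilbD.IsUniversal f d (H d) (Z d)) {Y₁ Y₂ : Set X}
  (P : Piece f H Z Y₁) (Q : Piece f H Z Y₂) (a b : ℕ)

/-- The product of two pieces. -/
abbrev prodT : Over (Spec (CommRingCat.of k)) :=
  Over.mk (pullback.fst (P.ι a ≫ (H a).hom) (Q.ι b ≫ (H b).hom) ≫ P.ι a ≫ (H a).hom)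

/-- The first family. -/
def fstMap : prodT P Q a b ⟶ H a :=
  Over.homMk (pullback.fst (P.ι a ≫ (H a).hom) (Q.ι b ≫ (H b).hom) ≫ P.ι a) (by simp)

/-- The second family. -/
def sndMap : prodT P Q a b ⟶ H b :=
  Over.homMk (pullback.snd (P.ι a ≫ (H a).hom) (Q.ι b ≫ (H b).hom) ≫ Q.ι b) (by
    simp [pullback.condition])

include hZ in
theorem exists_prodMap (hY : Disjoint Y₁ Y₂) {d : ℕ} (hd : a + b = d) :
    ∃ φ : prodT P Q a b ⟶ H d, IsSplit f (HilbD.pullObj f d φ (Z d))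
      (HilbD.pullObj f a (fstMap P Q a b) (Z a)) (HilbD.pullObj f b (sndMap P Q a b) (Z b)) := by
  subst hd
  obtain ⟨W, hW⟩ := exists_union _ _ hY (P.supp_pullObj (fstMap P Q a b) (pullback.fst _ _) rfl)
    (Q.supp_pullObj (sndMap P Q a b) (pullback.snd _ _) rfl)
  obtain ⟨φ, hφ, -⟩ := hZ (a + b) (prodT P Q a b) W
  exact ⟨φ, (Subtype.ext hφ : HilbD.pullObj f (a + b) φ (Z (a + b)) = W) ▸ hW⟩

/-- A split family at a morphism into the product. -/
theorem split_comp {d : ℕ} {φ : prodT P Q a b ⟶ H d} (hφ : IsSplit f (HilbD.pullObj f d φ (Z d))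
      (HilbD.pullObj f a (fstMap P Q a b) (Z a)) (HilbD.pullObj f b (sndMap P Q a b) (Z b)))
    {T : Over (Spec (CommRingCat.of k))} (u : T ⟶ prodT P Q a b) :
    IsSplit f (HilbD.pullObj f d (u ≫ φ) (Z d))
      (HilbD.pullObj f a (u ≫ fstMap P Q a b) (Z a)) (HilbD.pullObj f b (u ≫ sndMap P Q a b) (Z b)) := by
  have h := hφ.pull u
  have e : ∀ {e : ℕ} (g : prodT P Q a b ⟶ H e),
      HilbD.pullObj f e u (HilbD.pullObj f e g (Z e)) = HilbD.pullObj f e (u ≫ g) (Z e) :=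
    fun g => Subtype.ext (HilbD.pull_comp f g u _).symm
  rwa [e, e, e] at h

/-- The parts at a morphism into the product are supported. -/
theorem supp_comp {T : Over (Spec (CommRingCat.of k))} (u : T ⟶ prodT P Q a b) :
    Supp f (HilbD.pullObj f a (u ≫ fstMap P Q a b) (Z a)) Y₁ ∧
      Supp f (HilbD.pullObj f b (u ≫ sndMap P Q a b) (Z b)) Y₂ :=
  ⟨P.supp_pullObj _ (u.left ≫ pullback.fst _ _) (by simp [fstMap]),
    Q.supp_pullObj _ (u.left ≫ pullback.snd _ _) (by simp [sndMap])⟩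

include hZ in
/-- Field points: the image of the product is split into degrees `a` and `b`. -/
theorem point_unique (hY : Disjoint Y₁ Y₂) {d a' b' : ℕ} {φ : prodT P Q a b ⟶ H d}
    {φ' : prodT P Q a' b' ⟶ H d}
    (hφ : IsSplit f (HilbD.pullObj f d φ (Z d))
      (HilbD.pullObj f a (fstMap P Q a b) (Z a)) (HilbD.pullObj f b (sndMap P Q a b) (Z b)))
    (hφ' : IsSplit f (HilbD.pullObj f d φ' (Z d))
      (HilbD.pullObj f a' (fstMap P Q a' b') (Z a')) (HilbD.pullObj f b' (sndMap P Q a' b') (Z b')))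
    {T : Over (Spec (CommRingCat.of k))} [Nonempty T.left] (u : T ⟶ prodT P Q a b) (v : T ⟶ prodT P Q a' b')
    (huv : u ≫ φ = v ≫ φ') : a = a' := by
  have h := split_comp P Q a b hφ u
  have h' := split_comp P Q a' b' hφ' v
  rw [← huv] at h'
  obtain ⟨s₁, s₂⟩ := supp_comp P Q a b u
  obtain ⟨s₁', s₂'⟩ := supp_comp P Q a' b' v
  have e := (h.unique h' hY s₁ s₂ s₁' s₂').1
  let t : T.left := Classical.arbitrary _
  have d1 := (HilbD.pullObj f a (u ≫ fstMap P Q a b) (Z a)).2.2 t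
  rw [← d1, ← (HilbD.pullObj f a' (v ≫ fstMap P Q a' b') (Z a')).2.2 t, e]

include hZ in
theorem mono_prodMap (hY : Disjoint Y₁ Y₂) {d : ℕ} {φ : prodT P Q a b ⟶ H d}
    (hφ : IsSplit f (HilbD.pullObj f d φ (Z d))
      (HilbD.pullObj f a (fstMap P Q a b) (Z a)) (HilbD.pullObj f b (sndMap P Q a b) (Z b))) :
    Mono φ.left := by
  refine ⟨fun {T'} u v huv => ?_⟩
  let T : Over (Spec (CommRingCat.of k)) := Over.mk (u ≫ (prodT P Q a b).hom)
  let u' : T ⟶ prodT P Q a b := Over.homMk u rfl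
  let v' : T ⟶ prodT P Q a b := Over.homMk v (by
    show v ≫ (prodT P Q a b).hom = u ≫ (prodT P Q a b).hom
    rw [← Over.w φ, reassoc_of% huv])
  have he : u' ≫ φ = v' ≫ φ := Over.OverMorphism.ext huv
  have h := split_comp P Q a b hφ u'
  have h' := split_comp P Q a b hφ v'
  rw [← he] at h'
  obtain ⟨s₁, s₂⟩ := supp_comp P Q a b u'
  obtain ⟨s₁', s₂'⟩ := supp_comp P Q a b v'
  obtain ⟨e1, e2⟩ := h.unique h' hY s₁ s₂ s₁' s₂'
  have g1 : u' ≫ fstMap P Q a b = v' ≫ fstMap P Q a b :=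
    ((hZ a T (HilbD.pullObj f a (u' ≫ fstMap P Q a b) (Z a))).unique rfl e1.symm)
  have g2 : u' ≫ sndMap P Q a b = v' ≫ sndMap P Q a b :=
    ((hZ b T (HilbD.pullObj f b (u' ≫ sndMap P Q a b) (Z b))).unique rfl e2.symm)
  apply pullback.hom_ext
  · rw [← cancel_mono (P.ι a), Category.assoc, Category.assoc]
    exact congrArg CommaMorphism.left g1
  · rw [← cancel_mono (Q.ι b), Category.assoc, Category.assoc]
    exact congrArg CommaMorphism.left g2

include hZ in
theorem range_prodMap (hY : Disjoint Y₁ Y₂) {d : ℕ} {φ : prodT P Q a b ⟶ H d}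
    (hφ : IsSplit f (HilbD.pullObj f d φ (Z d))
      (HilbD.pullObj f a (fstMap P Q a b) (Z a)) (HilbD.pullObj f b (sndMap P Q a b) (Z b))) :
    Set.range φ.left ⊆ locus f H Z (Y₁ ∪ Y₂) d := by
  rintro _ ⟨t, rfl⟩ z hz
  have hs := hφ.supp (P.supp_pullObj (fstMap P Q a b) (pullback.fst _ _) rfl)
    (Q.supp_pullObj (sndMap P Q a b) (pullback.snd _ _) rfl)
  obtain ⟨ψ, hψ, hsq⟩ := HilbD.exists_isPullback_pull f φ (Z d).1
  obtain ⟨w, hw, -⟩ := Scheme.exists_preimage_of_isPullback hsq z t hz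
  have h1 : (ψ ≫ (Z d).1.subschemeι) ≫ pullback.fst f (H d).hom =
      (_root_.HilbD.pull f φ (Z d).1).subschemeι ≫ pullback.fst f (prodT P Q a b).hom := by
    rw [hψ, Category.assoc, HilbD.XTmap_fst]
  rw [← hw, ← Scheme.Hom.comp_apply, ← Category.assoc, h1]
  exact hs w

include hZ in
theorem exists_point (hY : Disjoint Y₁ Y₂) {d : ℕ} {h : (H d).left} (hh : h ∈ locus f H Z (Y₁ ∪ Y₂) d)
    (φ : ∀ p : ℕ × ℕ, p.1 + p.2 = d → (prodT P Q p.1 p.2 ⟶ H d))
    (hφ : ∀ p hp, IsSplit f (HilbD.pullObj f d (φ p hp) (Z d))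
      (HilbD.pullObj f p.1 (fstMap P Q p.1 p.2) (Z p.1)) (HilbD.pullObj f p.2 (sndMap P Q p.1 p.2) (Z p.2))) :
    ∃ (p : ℕ × ℕ) (hp : p.1 + p.2 = d), h ∈ Set.range (φ p hp).left := by
  let K := (H d).left.residueField h
  let x : Spec K ⟶ (H d).left := (H d).left.fromSpecResidueField h
  let T : Over (Spec (CommRingCat.of k)) := Over.mk (x ≫ (H d).hom)
  let g : T ⟶ H d := Over.homMk x rfl
  have hxp : ∀ p, x p = h := fun p => (H d).left.fromSpecResidueField_apply h p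
  let W := HilbD.pullObj f d g (Z d)
  haveI : Subsingleton T.left := inferInstanceAs (Subsingleton (Spec K))
  haveI : Nonempty T.left := inferInstanceAs (Nonempty (Spec K))
  haveI : IsFinite (W.1.subschemeι ≫ PicF.XTproj f T) := W.2.1.1
  haveI : IsLocallyArtinian T.left := inferInstanceAs (IsLocallyArtinian (Spec K))
  haveI : IsLocallyArtinian W.1.subscheme := IsLocallyArtinian.of_locallyQuasiFinite (W.1.subschemeι ≫ PicF.XTproj f T)
  have hW : Supp f W (Y₁ ∪ Y₂) := supp_pull g fun z ⟨t, ht⟩ => hh z (ht.symm.trans (hxp t))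
  obtain ⟨a, b, Z₁, Z₂, hab, s₁, s₂, hs⟩ := exists_split W hY hW
  obtain ⟨g₁, hg₁, -⟩ := hZ a T Z₁
  obtain ⟨g₂, hg₂, -⟩ := hZ b T Z₂
  have mem : ∀ {e : ℕ} {Y : Set X} (g' : T ⟶ H e), Supp f (HilbD.pullObj f e g' (Z e)) Y →
      ∀ t : T.left, g'.left t ∈ locus f H Z Y e := by
    intro e Y g' hsup t z hz
    obtain ⟨ψ, hψ, hsq⟩ := HilbD.exists_isPullback_pull f g' (Z e).1
    obtain ⟨w, hw, -⟩ := Scheme.exists_preimage_of_isPullback hsq z t hz
    have h1 : (ψ ≫ (Z e).1.subschemeι) ≫ pullback.fst f (H e).hom =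
        (_root_.HilbD.pull f g' (Z e).1).subschemeι ≫ pullback.fst f T.hom := by
      rw [hψ, Category.assoc, HilbD.XTmap_fst]
    rw [← hw, ← Scheme.Hom.comp_apply, ← Category.assoc, h1]
    exact hsup w
  have eZ₁ : HilbD.pullObj f a g₁ (Z a) = Z₁ := Subtype.ext hg₁
  have eZ₂ : HilbD.pullObj f b g₂ (Z b) = Z₂ := Subtype.ext hg₂
  obtain ⟨y₁, hy₁⟩ := P.exists_lift a (K := K) g₁.left (mem g₁ (eZ₁ ▸ s₁))
  obtain ⟨y₂, hy₂⟩ := Q.exists_lift b (K := K) g₂.left (mem g₂ (eZ₂ ▸ s₂))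
  have w₁ : y₁ ≫ P.ι a ≫ (H a).hom = T.hom := by rw [reassoc_of% hy₁]; exact Over.w g₁
  have w₂ : y₂ ≫ Q.ι b ≫ (H b).hom = T.hom := by rw [reassoc_of% hy₂]; exact Over.w g₂
  let u : T ⟶ prodT P Q a b := Over.homMk (pullback.lift y₁ y₂ (w₁.trans w₂.symm)) (by
    show pullback.lift y₁ y₂ (w₁.trans w₂.symm) ≫ pullback.fst _ _ ≫ _ = _
    rw [pullback.lift_fst_assoc]; exact w₁)
  have hu₁ : u ≫ fstMap P Q a b = g₁ := Over.OverMorphism.ext (by
    show pullback.lift y₁ y₂ (w₁.trans w₂.symm) ≫ pullback.fst _ _ ≫ P.ι a = _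
    rw [pullback.lift_fst_assoc]; exact hy₁)
  have hu₂ : u ≫ sndMap P Q a b = g₂ := Over.OverMorphism.ext (by
    show pullback.lift y₁ y₂ (w₁.trans w₂.symm) ≫ pullback.snd _ _ ≫ Q.ι b = _
    rw [pullback.lift_snd_assoc]; exact hy₂)
  have h' := split_comp P Q a b (hφ (a, b) hab) u
  rw [hu₁, hu₂, eZ₁, eZ₂] at h'
  have he : u ≫ φ (a, b) hab = g :=
    (hZ d T W).unique (congrArg Subtype.val (h'.eq_total hs)) rfl
  refine ⟨(a, b), hab, u.left (Classical.arbitrary _), ?_⟩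
  rw [← Scheme.Hom.comp_apply, ← Over.comp_left, he]
  exact hxp _

end Groth.Agent.HilbStrat
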